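import Groth.Agent.EtAlg.K289.RefN13b
import Groth.Agent.EtAlg.K416.RefN2
import Groth.Agent.EtAlg.K589.RefN12
import Groth.Agent.EtAlg.K956.RefN4
import Groth.Agent.EtAlg.K315.RefN6
import Groth.Agent.EtAlg.K315.RefN11
import Groth.Agent.EtAlg.K458.RefN8
import Groth.Agent.EtAlg.K261.RefN5
import Groth.Agent.EtAlg.K261.RefN7c
import Groth.Agent.EtAlg.K750.RefN7
import Groth.Agent.EtAlg.K119.RefN10

/-!
# Node N13 of the refutation of S7162: the contradiction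
-/

set_option autoImplicit false

namespace K289.RefN13

open Groth.Agent.Etalg.EppFrame Polynomial Groth.Agent.EtAlg.K405

variable {Ω : Type} [NormedField Ω] [IsUltrametricDist Ω] [IsAlgClosed Ω] [CharP Ω 2] (C : Ctx Ω)

/-- **N13** -/
theorem N13_main {E : Subfield Ω} (hE : C.FF ≤ E) (hfin : C.FF.relfinrank E ≠ 0) {ϖ : Ω} (hϖ : ϖ ∈ E)
    (h1 : Disc (C.MM C.s1 ⊔ E ⊔ Subfield.closure {C.z}) ϖ)
    (h2 : Disc (C.MM C.s2 ⊔ E ⊔ Subfield.closure {C.z}) ϖ) : False :=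
  main_of C (fun _ hx h0 => Groth.Agent.EtAlg.K416.RefN2.N2a_norm_kb C hx h0) (Groth.Agent.EtAlg.K956.RefN4.N4a_disc C) (Groth.Agent.EtAlg.K956.RefN4.N4b_res C)
    (Groth.Agent.EtAlg.K261.RefN5.N5d_ns C) (fun κ _ n ha hns => K315.RefN6.N6_li κ n ha hns)
    (fun a ha => Groth.Agent.EtAlg.K750.RefN7.N7a_disc C a ha) (fun a ha => Groth.Agent.EtAlg.K750.RefN7.N7b_res C a ha)
    (fun a ha => Groth.Agent.EtAlg.K261.RefN7c.N7c_sq C a ha) (fun a ha => Groth.Agent.EtAlg.K750.RefN7.N7d_pi C a ha)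
    (fun hK hN hfin hsep _ _ hπ hd hπ' hd' _ he hres =>
      Groth.Agent.EtAlg.K458.RefN8.N8_sep C hK hN hfin hsep hπ hd hπ' hd' he hres)
    (fun hK hN hfin _ _ hπ hd hϖ hd' _ he hres _ hτ hsq =>
      Groth.Agent.EtAlg.K119.RefN10.N10_defectless C hK hN hfin hπ hd hϖ hd' he hres hτ hsq)
    (fun hFE hfin η h0 hη hM c hc hc' => K315.RefN11.N11_ld hFE hfin η h0 hη hM c hc hc')
    (fun hFE hfin hΛ hκ hres _ _ _ _ hd hϖ h0 h1 _ _ he hw hω hwω hli =>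
      K589.RefN12.N12_ef hFE hfin hΛ hκ hres hd hϖ h0 h1 he hw hω hwω hli)
    hE hfin hϖ h1 h2

end K289.RefN13
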