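import Groth.Agent.EtAlg.K405.Ctx

/-!
# Node N13 of the refutation of S7162: the contradiction

Preparations: `2^m`-th roots in an algebraically closed field of characteristic two; `z ∈ E`; the two estimates.
The other nodes are taken as hypotheses.
-/

set_option autoImplicit false

namespace K289.RefN13

open Groth.Agent.Etalg.EppFrame Polynomial Groth.Agent.EtAlg.K405

section Roots

variable {F : Type*} [Field F]

theorem exists_rt [IsAlgClosed F] (m : ℕ) (x : F) : ∃ y : F, y ^ 2 ^ m = x :=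
  IsAlgClosed.exists_pow_nat_eq x (pow_pos two_pos m)

variable [CharP F 2]

theorem eq_of_pow {m : ℕ} {x y : F} (h : x ^ 2 ^ m = y ^ 2 ^ m) : x = y :=
  iterateFrobenius_inj F 2 m (by simpa [iterateFrobenius_def] using h)

theorem add_pow' (m : ℕ) (x y : F) : (x + y) ^ 2 ^ m = x ^ 2 ^ m + y ^ 2 ^ m := add_pow_char_pow x y 2 m

theorem add_self' (x : F) : x + x = 0 := CharTwo.add_self_eq_zero x

variable [IsAlgClosed F]

/-- the `2^m`-th root -/
noncomputable def rt (m : ℕ) (x : F) : F := (exists_rt m x).choose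

theorem rt_pow (m : ℕ) (x : F) : rt m x ^ 2 ^ m = x := (exists_rt m x).choose_spec

theorem eq_rt {m : ℕ} {x y : F} (h : y ^ 2 ^ m = x) : y = rt m x := eq_of_pow (h.trans (rt_pow m x).symm)

theorem rt_zero (x : F) : rt 0 x = x := (eq_rt (by simp)).symm

theorem rt_add (m : ℕ) (x y : F) : rt m (x + y) = rt m x + rt m y :=
  (eq_rt (by rw [add_pow', rt_pow, rt_pow])).symm

theorem rt_mul (m : ℕ) (x y : F) : rt m (x * y) = rt m x * rt m y :=
  (eq_rt (by rw [mul_pow, rt_pow, rt_pow])).symm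

theorem rt_succ_sq (m : ℕ) (x : F) : rt (m + 1) x ^ 2 = rt m x :=
  eq_rt (by rw [← pow_mul, ← pow_succ', rt_pow])

theorem rt_rt (m n : ℕ) (x : F) : rt (m + n) x ^ 2 ^ n = rt m x :=
  eq_rt (by rw [← pow_mul, ← pow_add, Nat.add_comm n m, rt_pow])

end Roots

section Norm

variable {Ω : Type} [NormedField Ω] [CharP Ω 2] [IsAlgClosed Ω]

theorem norm_rt_lt_one {m : ℕ} {x : Ω} (h : ‖x‖ < 1) : ‖rt m x‖ < 1 := by
  by_contra hcon
  rw [not_lt] at hcon
  have h1 : 1 ≤ ‖rt m x‖ ^ 2 ^ m := one_le_pow₀ hcon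
  rw [← norm_pow, rt_pow] at h1
  exact absurd h (not_lt.2 h1)

end Norm

section Sep

variable {F : Type*} [Field F] [CharP F 2]

theorem charP_sub (A : Subfield F) : CharP A 2 := (RingHom.charP_iff A.subtype A.subtype.injective 2).2 ‹_›

theorem isSeparable_of_eq {A : Subfield F} {x u : F} (hu : u ∈ A) (h : x ^ 2 + x = u) : IsSeparable A x := by
  have := charP_sub A
  let f : A[X] := X ^ 2 + X + C (⟨u, hu⟩ : A)
  have h1 : aeval x f = 0 := by
    have h2 : (algebraMap A F) ⟨u, hu⟩ = u := rfl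
    simp only [f, map_add, map_pow, aeval_X, aeval_C, h2, h]
    exact add_self' u
  refine Polynomial.Separable.of_dvd ?_ (minpoly.dvd A x h1)
  have h3 : derivative f = 1 := by
    simp only [f, derivative_add, derivative_X_pow, derivative_X, derivative_C, add_zero]
    have h4 : ((2 : ℕ) : A) = 0 := CharP.cast_eq_zero A 2
    rw [h4]
    simp
  rw [Polynomial.Separable, h3]
  exact isCoprime_one_right

theorem mem_of_pow_mem {E : Subfield F} {x u : F} (hu : u ∈ E) (h : x ^ 2 + x = u) {m : ℕ}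
    (hm : x ^ 2 ^ m ∈ E) : x ∈ E := by
  have key : ∀ m : ℕ, ∃ v ∈ E, x ^ 2 ^ m = x + v := by
    intro m
    induction m with
    | zero => exact ⟨0, E.zero_mem, by simp⟩
    | succ m ih =>
      obtain ⟨v, hv, hx⟩ := ih
      refine ⟨u + v ^ 2, E.add_mem hu (E.pow_mem hv 2), ?_⟩
      rw [pow_succ, pow_mul, hx, CharTwo.add_sq, ← h]
      rw [show x + (x ^ 2 + x + v ^ 2) = (x + x) + (x ^ 2 + v ^ 2) by ring, add_self', zero_add]
  obtain ⟨v, hv, hx⟩ := key m
  have : x = x ^ 2 ^ m - v := by rw [hx]; ring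
  rw [this]
  exact E.sub_mem hm hv

/-- elements with a `2`-power in `E` -/
def perf (E : Subfield F) : Subfield F where
  carrier := {x | ∃ m : ℕ, x ^ 2 ^ m ∈ E}
  mul_mem' := by
    rintro x y ⟨m, hm⟩ ⟨n, hn⟩
    refine ⟨m + n, ?_⟩
    rw [mul_pow]
    refine E.mul_mem ?_ ?_
    · rw [pow_add, pow_mul]
      exact E.pow_mem hm _
    · rw [Nat.add_comm, pow_add, pow_mul]
      exact E.pow_mem hn _
  one_mem' := ⟨0, by simp⟩
  add_mem' := by
    rintro x y ⟨m, hm⟩ ⟨n, hn⟩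
    refine ⟨m + n, ?_⟩
    rw [add_pow']
    refine E.add_mem ?_ ?_
    · rw [pow_add, pow_mul]
      exact E.pow_mem hm _
    · rw [Nat.add_comm, pow_add, pow_mul]
      exact E.pow_mem hn _
  zero_mem' := ⟨0, by simp⟩
  neg_mem' := by
    rintro x ⟨m, hm⟩
    refine ⟨m, ?_⟩
    rw [CharTwo.neg_eq]
    exact hm
  inv_mem' := by
    rintro x ⟨m, hm⟩
    refine ⟨m, ?_⟩
    rw [inv_pow]
    exact E.inv_mem hm

theorem mem_perf {E : Subfield F} {x : F} : x ∈ perf E ↔ ∃ m : ℕ, x ^ 2 ^ m ∈ E := Iff.rfl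

theorem le_perf (E : Subfield F) : E ≤ perf E := fun x hx => ⟨0, by simpa using hx⟩

end Sep

variable {Ω : Type} [NormedField Ω] [CharP Ω 2] (C : Ctx Ω)

theorem r_mem_kk : C.r ∈ C.kk := by
  rw [C.mem_kk]
  refine isSeparable_of_eq (u := 1) C.k0.one_mem ?_
  have := C.r_eq
  have h2 : (1 : Ω) + 1 = 0 := add_self' 1
  linear_combination this - h2

theorem r_four : C.r ^ 4 = C.r := by
  have h := C.r_eq
  have h2 : (1 : Ω) + 1 = 0 := add_self' 1
  linear_combination (C.r ^ 2 - C.r) * h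

section Main

variable [IsAlgClosed Ω]

omit [CharP Ω 2] in
theorem t_ne_zero : C.t ≠ 0 := norm_pos_iff.1 C.disc.1

theorem s1_add_s2 : C.s1 + C.s2 = C.t := by
  unfold Ctx.s1 Ctx.s2
  have h2 : (1 : Ω) + 1 = 0 := add_self' 1
  linear_combination (C.s + C.r * C.t) * h2

theorem s_eq : C.s = C.s1 + C.r * C.t := by
  unfold Ctx.s1
  have h2 : (1 : Ω) + 1 = 0 := add_self' 1
  linear_combination (-(C.r * C.t)) * h2

theorem MM_eq (a : Ω) : C.MM a = C.FF ⊔ Subfield.closure (Set.range fun m => rt m a) := by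
  unfold Ctx.MM
  congr 2
  ext y
  constructor
  · rintro ⟨m, hm⟩
    exact ⟨m, (eq_rt hm).symm⟩
  · rintro ⟨m, rfl⟩
    exact ⟨m, rt_pow m a⟩

variable {E : Subfield Ω} (hE : C.FF ≤ E)

include hE in
theorem K_le : C.K ≤ E := C.K_le_FF.trans hE

include hE in
theorem r_mem : C.r ∈ E := hE (C.kk_le_FF (r_mem_kk C))

include hE in
theorem rt_r_mem (m : ℕ) : rt m C.r ∈ E := by
  have h4 : ∀ m : ℕ, C.r ^ 4 ^ m = C.r := by
    intro m
    induction m with
    | zero => simp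
    | succ m ih => rw [pow_succ, pow_mul, ih, r_four]
  have h : C.r ^ 2 ^ m = rt m C.r := by
    refine eq_rt ?_
    rw [← pow_mul, ← mul_pow]
    exact h4 m
  rw [← h]
  exact E.pow_mem (r_mem C hE) _

section Exp

variable {c : ℕ} (h1 : rt c C.s1 ∈ E) (h2 : rt c C.s2 ∈ E)

omit [CharP Ω 2] in
theorem rt_mem_of_le {c m : ℕ} [CharP Ω 2] {x : Ω} (h : rt c x ∈ E) (hm : m ≤ c) : rt m x ∈ E := by
  obtain ⟨n, rfl⟩ := Nat.exists_eq_add_of_le hm
  rw [← rt_rt m n]
  exact E.pow_mem h _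

include h1 h2 in
theorem rt_t_mem : rt c C.t ∈ E := by
  rw [← s1_add_s2 C, rt_add]
  exact E.add_mem h1 h2

include hE h1 h2 in
theorem rt_s_mem : rt c C.s ∈ E := by
  rw [s_eq C, rt_add, rt_mul]
  exact E.add_mem h1 (E.mul_mem (rt_r_mem C hE c) (rt_t_mem C h1 h2))

theorem rt_succ_z (m : ℕ) : rt (m + 1) C.z = rt m C.z + rt (m + 1) C.s / rt m C.t := by
  refine (eq_rt ?_).symm
  have e1 : rt m C.z ^ 2 ^ (m + 1) = C.z ^ 2 := by rw [pow_succ, pow_mul, rt_pow]
  have e2 : rt m C.t ^ 2 ^ (m + 1) = C.t ^ 2 := by rw [pow_succ, pow_mul, rt_pow]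
  rw [add_pow', div_pow, e1, e2, rt_pow, ← C.z_eq]
  have h2 : (1 : Ω) + 1 = 0 := add_self' 1
  linear_combination (C.z ^ 2) * h2

include hE h1 h2 in
theorem rt_z_mem (hz : C.z ∈ E) : ∀ m ≤ c, rt m C.z ∈ E := by
  intro m
  induction m with
  | zero =>
    intro _
    rw [rt_zero]
    exact hz
  | succ m ih =>
    intro hm
    rw [rt_succ_z]
    exact E.add_mem (ih (by omega)) (E.div_mem (rt_mem_of_le (rt_s_mem C hE h1 h2) hm)
      (rt_mem_of_le (rt_t_mem C h1 h2) (by omega)))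

end Exp

variable [IsUltrametricDist Ω]

omit [CharP Ω 2] [IsAlgClosed Ω] in
theorem norm_s [CharP Ω 2] : ‖C.s‖ = 1 := by
  refine C.k0_norm _ C.s_mem fun h => ?_
  exact C.s_not_sq 0 C.k0.zero_mem (by simp [h])

theorem norm_zt_sub : ‖C.z * C.t - rt 1 C.s‖ < 1 := by
  have ht0 := t_ne_zero C
  have hy : (C.z * C.t) ^ 2 + C.t * (C.z * C.t) = C.s := by
    have h := C.z_eq
    field_simp at h
    linear_combination h
  set y := C.z * C.t with hydef
  have hs := norm_s C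
  have ht := C.disc.2.1
  have hy1 : ‖y‖ ≤ 1 := by
    by_contra hcon
    rw [not_le] at hcon
    have e1 : ‖C.t * y‖ < ‖y ^ 2‖ := by
      rw [norm_mul, norm_pow, sq]
      exact mul_lt_mul_of_pos_right (ht.trans hcon) (zero_lt_one.trans hcon)
    have e2 : ‖y ^ 2 + C.t * y‖ = ‖y ^ 2‖ := by
      rw [IsUltrametricDist.norm_add_eq_max_of_norm_ne_norm e1.ne', max_eq_left e1.le]
    rw [hy, hs, norm_pow] at e2
    have : 1 < ‖y‖ ^ 2 := one_lt_pow₀ hcon two_ne_zero
    linarith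
  have h2 : (y - rt 1 C.s) ^ 2 = C.t * y := by
    have e := rt_pow 1 C.s
    rw [pow_one] at e
    have h2 : (1 : Ω) + 1 = 0 := add_self' 1
    linear_combination hy - e + (rt 1 C.s ^ 2 - C.t * y - y * rt 1 C.s) * h2
  have h3 : ‖y - rt 1 C.s‖ ^ 2 < 1 := by
    rw [← norm_pow, h2, norm_mul]
    exact mul_lt_one_of_nonneg_of_lt_one_left (norm_nonneg _) ht hy1
  by_contra hcon
  rw [not_lt] at hcon
  exact absurd h3 (not_lt.2 (one_le_pow₀ hcon))

end Main

end K289.RefN13
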