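import Groth.Agent.EtAlg.K289.RefN13a

/-!
# Node N13 of the refutation of S7162: the contradiction, the other nodes as hypotheses
-/

set_option autoImplicit false

namespace K289.RefN13

open Groth.Agent.Etalg.EppFrame Polynomial Groth.Agent.EtAlg.K405 IntermediateField

variable {Ω : Type} [NormedField Ω] [CharP Ω 2] (C : Ctx Ω)

omit [CharP Ω 2] in
theorem relfinrank_adjoin_ne_zero (N : Subfield Ω) {z : Ω} (hz : IsIntegral N z) :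
    N.relfinrank (N ⊔ Subfield.closure {z}) ≠ 0 := by
  rw [Subfield.relfinrank_eq_finrank_of_le le_sup_left]
  have h1 : N ⊔ Subfield.closure {z} ≤ (adjoin N {z}).toSubfield := by
    refine sup_le ?_ ?_
    · intro x hx
      exact (adjoin N {z}).algebraMap_mem ⟨x, hx⟩
    · rw [Subfield.closure_le, Set.singleton_subset_iff]
      exact mem_adjoin_simple_self N z
  have h2 : Subfield.extendScalars (le_sup_left : N ≤ N ⊔ Subfield.closure {z}) ≤ adjoin N {z} := h1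
  have := adjoin.finiteDimensional hz
  have h3 : FiniteDimensional N
      (Subfield.extendScalars (le_sup_left : N ≤ N ⊔ Subfield.closure {z})) :=
    FiniteDimensional.of_injective (IntermediateField.inclusion h2).toLinearMap
      (IntermediateField.inclusion_injective h2)
  exact Module.finrank_pos.ne'

omit [CharP Ω 2] in
theorem disc_mono {N N' : Subfield Ω} (h : N ≤ N') {ϖ : Ω} (hd : Disc N' ϖ) : Disc N ϖ :=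
  ⟨hd.1, hd.2.1, fun x hx => hd.2.2 x (h hx)⟩

omit [CharP Ω 2] in
theorem resFull_mono {N N' : Subfield Ω} (h : N ≤ N') (hd : ResFull N) : ResFull N' := fun x hx =>
  let ⟨y, hy, hxy⟩ := hd x hx
  ⟨y, h hy, hxy⟩

theorem z_isSeparable {N : Subfield Ω} (hK : C.K ≤ N) : IsSeparable N C.z :=
  isSeparable_of_eq (hK (C.K.div_mem C.s_mem_K (C.K.pow_mem C.t_mem 2))) C.z_eq

theorem isSeparable_sup {N : Subfield Ω} (hK : C.K ≤ N) :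
    ∀ x ∈ N ⊔ Subfield.closure {C.z}, IsSeparable N x := by
  have h : N ⊔ Subfield.closure {C.z} ≤ (separableClosure N Ω).toSubfield := by
    refine sup_le ?_ ?_
    · intro x hx
      exact (separableClosure N Ω).algebraMap_mem ⟨x, hx⟩
    · rw [Subfield.closure_le, Set.singleton_subset_iff]
      exact mem_separableClosure_iff.2 (z_isSeparable C hK)
  intro x hx
  exact mem_separableClosure_iff.1 (h hx)

/-- N8_sep as a hypothesis -/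
def H8 : Prop := ∀ {N N' : Subfield Ω} (_ : C.K ≤ N) (_ : N ≤ N') (_ : N.relfinrank N' ≠ 0)
    (_ : ∀ x ∈ N', IsSeparable N x) {π π' : Ω} (_ : π ∈ N) (_ : Disc N π) (_ : π' ∈ N')
    (_ : Disc N' π') {e : ℕ} (_ : ‖π‖ = ‖π'‖ ^ e) (_ : ResFull N), N.relfinrank N' ≤ e

theorem z_mem_sup (h8 : H8 C) {N : Subfield Ω} (hK : C.K ≤ N) {ϖ : Ω} (hϖ : ϖ ∈ N)
    (hd : Disc (N ⊔ Subfield.closure {C.z}) ϖ) (hres : ResFull N) : C.z ∈ N := by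
  have h0 := relfinrank_adjoin_ne_zero N (z_isSeparable C hK).isIntegral
  have h1 := h8 hK le_sup_left h0 (isSeparable_sup C hK) hϖ (disc_mono le_sup_left hd)
    ((le_sup_left : N ≤ _) hϖ) hd (e := 1) (by rw [pow_one]) hres
  have h2 : N.relfinrank (N ⊔ Subfield.closure {C.z}) = 1 := by omega
  rw [Subfield.relfinrank_eq_one_iff] at h2
  exact h2 ((le_sup_right : _ ≤ N ⊔ Subfield.closure {C.z}) (Subfield.subset_closure rfl))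

theorem z_mem (h8 : H8 C) {E : Subfield Ω} (hE : C.FF ≤ E) {a : Ω} {ϖ : Ω} (hϖ : ϖ ∈ E)
    (hd : Disc (C.MM a ⊔ E ⊔ Subfield.closure {C.z}) ϖ) (hres : ResFull (C.MM a))
    (hpi : ∀ x ∈ C.MM a, ∃ m : ℕ, x ^ 2 ^ m ∈ C.FF) : C.z ∈ E := by
  have hKE : C.K ≤ E := C.K_le_FF.trans hE
  have h1 : C.z ∈ C.MM a ⊔ E := z_mem_sup C h8 (hKE.trans le_sup_right)
    ((le_sup_right : E ≤ C.MM a ⊔ E) hϖ) hd (resFull_mono le_sup_left hres)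
  have h2 : C.MM a ⊔ E ≤ perf E := by
    refine sup_le ?_ (le_perf E)
    intro x hx
    obtain ⟨m, hm⟩ := hpi x hx
    exact ⟨m, hE hm⟩
  obtain ⟨m, hm⟩ := h2 h1
  exact mem_of_pow_mem (hKE (C.K.div_mem C.s_mem_K (C.K.pow_mem C.t_mem 2))) C.z_eq hm

section Lower

variable [IsAlgClosed Ω] [IsUltrametricDist Ω]

/-- N12_ef as a hypothesis -/
def H12 : Prop := ∀ {F E κ Λ : Subfield Ω} (_ : F ≤ E) (_ : F.relfinrank E ≠ 0) (_ : ∀ x ∈ Λ, x ≠ 0 → ‖x‖ = 1)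
    (_ : κ ≤ Λ) (_ : ∀ x ∈ F, ‖x‖ ≤ 1 → ∃ a ∈ κ, ‖x - a‖ < 1) {t ϖ w ω : Ω} (_ : Disc F t) (_ : ϖ ∈ E)
    (_ : 0 < ‖ϖ‖) (_ : ‖ϖ‖ < 1) {e n : ℕ} (_ : ‖t‖ = ‖ϖ‖ ^ e) (_ : w ∈ E) (_ : ω ∈ Λ) (_ : ‖w - ω‖ < 1)
    (_ : LinearIndependent κ (fun j : Fin n => ω ^ (j : ℕ))), e * n ≤ F.relfinrank E

/-- N6_li as a hypothesis -/
def H6 : Prop := ∀ (κ : Subfield Ω) {ω : Ω} (n : ℕ) (_ : ω ^ 2 ^ n ∈ κ) (_ : ∀ b ∈ κ, b ^ 2 ≠ ω ^ 2 ^ n),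
    LinearIndependent κ (fun j : Fin (2 ^ n) => ω ^ (j : ℕ))

/-- the lower bound for `[E : FF]` -/
theorem lower (h12 : H12 (Ω := Ω)) (h6 : H6 (Ω := Ω)) (h2a : ∀ x ∈ C.kb, x ≠ 0 → ‖x‖ = 1)
    (h4a : Disc C.FF C.t) (h4b : ∀ x ∈ C.FF, ‖x‖ ≤ 1 → ∃ a ∈ C.kk, ‖x - a‖ < 1)
    (h5d : ∀ x ∈ C.kk, x ^ 2 ≠ C.s)
    {E : Subfield Ω} (hE : C.FF ≤ E) (hfin : C.FF.relfinrank E ≠ 0) {ϖ : Ω} (hϖ : ϖ ∈ E)
    (h0 : 0 < ‖ϖ‖) (h1 : ‖ϖ‖ < 1) {e : ℕ} (he : ‖C.t‖ = ‖ϖ‖ ^ e) (hz : C.z ∈ E) {c : ℕ}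
    (hc1 : rt c C.s1 ∈ E) (hc2 : rt c C.s2 ∈ E) : e * 2 ^ (c + 1) ≤ C.FF.relfinrank E := by
  have hw : rt c (C.z * C.t) ∈ E := by
    rw [rt_mul]
    exact E.mul_mem (rt_z_mem C hE hc1 hc2 hz c le_rfl) (rt_t_mem C hc1 hc2)
  have hω : rt (c + 1) C.s ∈ C.kb := by
    rw [C.mem_kb]
    refine IsAlgebraic.of_pow (n := 2 ^ (c + 1)) (by positivity) ?_
    rw [rt_pow]
    exact isAlgebraic_algebraMap (⟨C.s, C.s_mem⟩ : C.k0)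
  have hwω : ‖rt c (C.z * C.t) - rt (c + 1) C.s‖ < 1 := by
    have e1 : rt (c + 1) C.s = rt c (rt 1 C.s) := by
      refine (eq_rt ?_).symm.symm
      rw [Nat.add_comm c 1, rt_rt]
    have e2 : rt c (C.z * C.t) - rt (c + 1) C.s = rt c (C.z * C.t - rt 1 C.s) := by
      rw [e1]
      refine eq_rt ?_
      rw [sub_pow_char_pow, rt_pow, rt_pow]
    rw [e2]
    exact norm_rt_lt_one (norm_zt_sub C)
  refine h12 hE hfin h2a C.kk_le_kb h4b h4a hϖ h0 h1 he hw hω hwω (h6 C.kk (c + 1) ?_ ?_)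
  · rw [rt_pow]
    exact C.k0_le_kk C.s_mem
  · intro b hb
    rw [rt_pow]
    exact h5d b hb

/-- N10_defectless as a hypothesis -/
def H10 : Prop := ∀ {N N' : Subfield Ω} (_ : C.K ≤ N) (_ : N ≤ N') (_ : N.relfinrank N' ≠ 0)
    {π ϖ : Ω} (_ : π ∈ N) (_ : Disc N π) (_ : ϖ ∈ N') (_ : Disc N' ϖ) {e : ℕ} (_ : ‖π‖ = ‖ϖ‖ ^ e)
    (_ : ResFull N) {τ : Ω} (_ : τ ∈ N) (_ : SqSpan N ![1, τ]), N.relfinrank N' ≤ e

/-- N11_ld as a hypothesis -/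
def H11 : Prop := ∀ {F E M : Subfield Ω} (_ : F ≤ E) (_ : F.relfinrank E ≠ 0) (η : ℕ → Ω) (_ : η 0 ∈ F)
    (_ : ∀ m, η (m + 1) ^ 2 = η m) (_ : M = F ⊔ Subfield.closure (Set.range η)) (c : ℕ) (_ : η c ∈ E)
    (_ : η (c + 1) ∉ E), M.relfinrank (M ⊔ E) ≠ 0 ∧ F.relfinrank E ≤ 2 ^ c * M.relfinrank (M ⊔ E)

omit [IsAlgClosed Ω] [IsUltrametricDist Ω] in
theorem s1_mem_FF : C.s1 ∈ C.FF :=
  C.FF.add_mem (C.K_le_FF C.s_mem_K) (C.FF.mul_mem (C.kk_le_FF (r_mem_kk C)) (C.K_le_FF C.t_mem))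

omit [IsAlgClosed Ω] [IsUltrametricDist Ω] in
theorem s2_mem_FF : C.s2 ∈ C.FF :=
  C.FF.add_mem (C.K_le_FF C.s_mem_K)
    (C.FF.mul_mem (C.FF.add_mem (C.kk_le_FF (r_mem_kk C)) C.FF.one_mem) (C.K_le_FF C.t_mem))

/-- the upper bound for `[E : FF]` -/
theorem upper (h10 : H10 C) (h11 : H11 (Ω := Ω)) {a : Ω} (ha : a ∈ C.FF) (h7a : Disc (C.MM a) C.t)
    (h7b : ResFull (C.MM a)) (h7c : SqSpan (C.MM a) ![1, C.t])
    {E : Subfield Ω} (hE : C.FF ≤ E) (hfin : C.FF.relfinrank E ≠ 0) {ϖ : Ω} (hϖ : ϖ ∈ E)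
    (hd : Disc (C.MM a ⊔ E) ϖ) {e : ℕ} (he : ‖C.t‖ = ‖ϖ‖ ^ e) {c : ℕ} (hc : rt c a ∈ E)
    (hc' : rt (c + 1) a ∉ E) : C.FF.relfinrank E ≤ 2 ^ c * e := by
  obtain ⟨h1, h2⟩ := h11 hE hfin (fun m => rt m a) (by simpa only [rt_zero] using ha)
    (fun m => rt_succ_sq m a) (MM_eq C a) c hc hc'
  have hKM : C.K ≤ C.MM a := C.K_le_FF.trans (C.FF_le_MM a)
  have h3 := h10 hKM (le_sup_left : C.MM a ≤ C.MM a ⊔ E) h1 (hKM C.t_mem) h7a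
    ((le_sup_right : E ≤ C.MM a ⊔ E) hϖ) hd he h7b (hKM C.t_mem) h7c
  exact h2.trans (Nat.mul_le_mul_left _ h3)

/-- **N13**, with the other nodes as hypotheses. -/
theorem main_of (h2a : ∀ x ∈ C.kb, x ≠ 0 → ‖x‖ = 1)
    (h4a : Disc C.FF C.t) (h4b : ∀ x ∈ C.FF, ‖x‖ ≤ 1 → ∃ a ∈ C.kk, ‖x - a‖ < 1)
    (h5d : ∀ x ∈ C.kk, x ^ 2 ≠ C.s) (h6 : H6 (Ω := Ω))
    (h7a : ∀ a, a = C.s1 ∨ a = C.s2 → Disc (C.MM a) C.t)
    (h7b : ∀ a, a = C.s1 ∨ a = C.s2 → ResFull (C.MM a))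
    (h7c : ∀ a, a = C.s1 ∨ a = C.s2 → SqSpan (C.MM a) ![1, C.t])
    (h7d : ∀ a, a = C.s1 ∨ a = C.s2 → ∀ x ∈ C.MM a, ∃ m : ℕ, x ^ 2 ^ m ∈ C.FF)
    (h8 : H8 C) (h10 : H10 C) (h11 : H11 (Ω := Ω)) (h12 : H12 (Ω := Ω))
    {E : Subfield Ω} (hE : C.FF ≤ E) (hfin : C.FF.relfinrank E ≠ 0) {ϖ : Ω} (hϖ : ϖ ∈ E)
    (h1 : Disc (C.MM C.s1 ⊔ E ⊔ Subfield.closure {C.z}) ϖ)
    (h2 : Disc (C.MM C.s2 ⊔ E ⊔ Subfield.closure {C.z}) ϖ) : False := by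
  have hz : C.z ∈ E := z_mem C h8 hE hϖ h1 (h7b _ (Or.inl rfl)) (h7d _ (Or.inl rfl))
  have hd1 : Disc (C.MM C.s1 ⊔ E) ϖ := disc_mono le_sup_left h1
  have hd2 : Disc (C.MM C.s2 ⊔ E) ϖ := disc_mono le_sup_left h2
  have hϖ0 := h1.1
  have hϖ1 := h1.2.1
  have htE : C.t ∈ E := hE (C.K_le_FF C.t_mem)
  obtain ⟨e, he, he1⟩ : ∃ e : ℕ, ‖C.t‖ = ‖ϖ‖ ^ e ∧ 1 ≤ e := by
    obtain ⟨n, hn⟩ := hd1.2.2 C.t ((le_sup_right : E ≤ C.MM C.s1 ⊔ E) htE) (t_ne_zero C)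
    have hn0 : 0 < n := by
      by_contra hcon
      rw [not_lt] at hcon
      have h3 : 1 ≤ ‖ϖ‖ ^ n := one_le_zpow_of_nonpos₀ hϖ0 hϖ1.le hcon
      rw [← hn] at h3
      exact absurd C.disc.2.1 (not_lt.2 h3)
    obtain ⟨e, rfl⟩ := Int.eq_ofNat_of_zero_le hn0.le
    refine ⟨e, by rw [hn]; exact zpow_natCast _ _, by omega⟩
  have hlow : ∀ c : ℕ, rt c C.s1 ∈ E → rt c C.s2 ∈ E → e * 2 ^ (c + 1) ≤ C.FF.relfinrank E :=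
    fun c hc1 hc2 => lower C h12 h6 h2a h4a h4b h5d hE hfin hϖ hϖ0 hϖ1 he hz hc1 hc2
  have hex : ∃ c : ℕ, ¬ (rt c C.s1 ∈ E ∧ rt c C.s2 ∈ E) := by
    by_contra hcon
    push_neg at hcon
    obtain ⟨hc1, hc2⟩ := hcon (C.FF.relfinrank E)
    have h3 := hlow _ hc1 hc2
    have h4 : C.FF.relfinrank E < 2 ^ (C.FF.relfinrank E + 1) :=
      (Nat.lt_succ_self _).trans Nat.lt_two_pow_self
    have h5 : 2 ^ (C.FF.relfinrank E + 1) ≤ e * 2 ^ (C.FF.relfinrank E + 1) :=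
      Nat.le_mul_of_pos_left _ he1
    omega
  classical
  obtain ⟨c, hc, hcmin⟩ : ∃ c : ℕ, ¬ (rt c C.s1 ∈ E ∧ rt c C.s2 ∈ E) ∧
      ∀ m < c, rt m C.s1 ∈ E ∧ rt m C.s2 ∈ E :=
    ⟨Nat.find hex, Nat.find_spec hex, fun m hm => not_not.1 (Nat.find_min hex hm)⟩
  cases c with
  | zero =>
    apply hc
    rw [rt_zero, rt_zero]
    exact ⟨hE (s1_mem_FF C), hE (s2_mem_FF C)⟩
  | succ c =>
    obtain ⟨hc1, hc2⟩ := hcmin c (Nat.lt_succ_self c)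
    have h3 := hlow c hc1 hc2
    have h4 : C.FF.relfinrank E ≤ 2 ^ c * e := by
      rcases not_and_or.1 hc with h | h
      · exact upper C h10 h11 (s1_mem_FF C) (h7a _ (Or.inl rfl)) (h7b _ (Or.inl rfl))
          (h7c _ (Or.inl rfl)) hE hfin hϖ hd1 he hc1 h
      · exact upper C h10 h11 (s2_mem_FF C) (h7a _ (Or.inr rfl)) (h7b _ (Or.inr rfl))
          (h7c _ (Or.inr rfl)) hE hfin hϖ hd2 he hc2 h
    have h5 : e * 2 ^ (c + 1) = 2 ^ c * e + 2 ^ c * e := by rw [pow_succ]; ring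
    have h6 : 0 < 2 ^ c * e := by positivity
    omega

end Lower

end K289.RefN13
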